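import Groth.Agent.FlatDim.BaseChange
import Groth.Agent.FlatDim.DimSets
import Groth.Agent.SpRelDim.Trdeg
import Groth.Agent.SpRelDim.Basic
import Groth.Agent.SmLocalST.EtReg
import Groth.Agent.SpQS.GenPts

/-!
Local rings of fibres and transcendence degrees under base change.
-/

universe u
open CategoryTheory CategoryTheory.Limits AlgebraicGeometry

set_option backward.isDefEq.respectTransparency false

namespace Groth.Agent.FibreDimBC

open Unibranch DimFormula FlatDim

variable {X Y : Scheme.{u}}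

/-- local rings grow along flat morphisms -/
theorem dim_stalk_le_of_flat {A B : Scheme.{u}} (q : A ⟶ B) [Flat q] (w : A) :
    ringKrullDim (B.presheaf.stalk (q w)) ≤ ringKrullDim (A.presheaf.stalk w) := by
  letI := (q.stalkMap w).hom.toAlgebra
  haveI : Module.Flat (B.presheaf.stalk (q w)) (A.presheaf.stalk w) := Flat.stalkMap q w
  haveI : IsLocalHom (algebraMap (B.presheaf.stalk (q w)) (A.presheaf.stalk w)) :=
    inferInstanceAs (IsLocalHom (q.stalkMap w).hom)
  exact SmLocalST.ringKrullDim_le_of_flat_local _ _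

/-- fibre stalk dimension is monotone under base change -/
theorem fibreStalkDim_le {X' Y' : Scheme.{u}} {f : X ⟶ Y} {f' : X' ⟶ Y'} {g' : X' ⟶ X} {g : Y' ⟶ Y}
    (h : IsPullback g' f' f g) (w : X') :
    ringKrullDim ((f.fiber (f (g' w))).presheaf.stalk (f.asFiber (g' w))) ≤
      ringKrullDim ((f'.fiber (f' w)).presheaf.stalk (f'.asFiber w)) := by
  have hsq := isPullback_fiberToSpecResidueField_of_isPullback h (f' w)
  set q := pullback.map f' (Y'.fromSpecResidueField (f' w)) f (Y.fromSpecResidueField (g (f' w))) g'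
    (Spec.map (g.residueFieldMap (f' w))) g h.w.symm (by simp) with hqdef
  letI := (g.residueFieldMap (f' w)).hom.toAlgebra
  haveI : Flat (Spec.map (g.residueFieldMap (f' w))) := by
    rw [HasRingHomProperty.Spec_iff (P := @Flat)]
    exact RingHom.flat_algebraMap_iff.mpr inferInstance
  haveI : Flat q := MorphismProperty.of_isPullback hsq.flip inferInstance
  have hcomm : f.fiberι (g (f' w)) (q (f'.asFiber w)) = g' w := by
    have h' : q ≫ f.fiberι (g (f' w)) = f'.fiberι (f' w) ≫ g' := pullback.lift_fst _ _ _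
    exact (congrArg (fun k : _ ⟶ X => k (f'.asFiber w)) h').trans (congrArg g' (f'.fiberι_asFiber w))
  have key : ∀ (y : Y) (_ : f (g' w) = y) (z : ↥(f.fiber y)), f.fiberι y z = g' w →
      ringKrullDim ((f.fiber (f (g' w))).presheaf.stalk (f.asFiber (g' w))) =
        ringKrullDim ((f.fiber y).presheaf.stalk z) := by
    rintro y rfl z hz
    obtain rfl : z = f.asFiber (g' w) :=
      (f.fiberι (f (g' w))).isEmbedding.injective (hz.trans (f.fiberι_asFiber _).symm)
    rfl
  have hfg : f (g' w) = g (f' w) := congrArg (fun k : _ ⟶ Y => k w) h.w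
  rw [key (g (f' w)) hfg (q (f'.asFiber w)) hcomm]
  exact dim_stalk_le_of_flat q (f'.asFiber w)

/-- at a maximal point of a fibre, the fibre dimension is the residual transcendence degree -/
theorem fibreDimAt_eq_resTrdeg (f : X ⟶ Y) [LocallyOfFiniteType f] {x : X} (hx : IsFibMax f x) {δ : ℕ}
    (hδ : Dual3.resTrdeg f x = (δ : Cardinal.{u})) : FlatMor.fibreDimAt f x = (δ : WithBot ℕ∞) := by
  obtain ⟨b, δ', hb, hδ', hD⟩ := SpRelDim.fibreDimAt_eq_add_resTrdeg f x
  rw [hδ, Nat.cast_inj] at hδ'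
  subst hδ'
  have h0 : ringKrullDim ((f.fiber (f x)).presheaf.stalk (f.asFiber x)) = 0 := by
    refine (SpQS.stalk_dim_zero_iff _).2 ((isFibMax_iff f (f x) _).2 ?_)
    rw [f.fiberι_asFiber]
    exact hx
  rw [h0] at hb
  obtain rfl : b = 0 := by exact_mod_cast hb.symm
  rw [hD, zero_add]

/-- some point of the base change over a given pair has the same transcendence degree -/
theorem exists_resTrdeg_eq {X' Y' : Scheme.{u}} {f : X ⟶ Y} {f' : X' ⟶ Y'} {g' : X' ⟶ X} {g : Y' ⟶ Y}
    (h : IsPullback g' f' f g) [LocallyOfFiniteType f] (x : X) (y' : Y') (e : f x = g y') :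
    ∃ w, g' w = x ∧ f' w = y' ∧ Dual3.resTrdeg f' w = Dual3.resTrdeg f x := by
  let ι := (Scheme.IdealSheafData.vanishingIdeal (TopologicalSpace.Closeds.closure ({x} : Set X))).subschemeι
  have hr : Set.range ι = closure {x} := by
    rw [Scheme.IdealSheafData.range_subschemeι, Scheme.IdealSheafData.coe_support_vanishingIdeal]
    try rfl
  obtain ⟨z, hz⟩ := hr.ge (subset_closure (Set.mem_singleton x))
  have sqA := IsPullback.of_hasPullback ι g'
  have sqB : IsPullback (pullback.fst ι g') (pullback.snd ι g' ≫ f') (ι ≫ f) g := sqA.paste_vert h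
  obtain ⟨v, hv1, hv2⟩ := Scheme.exists_preimage_of_isPullback sqB z y'
    (by rw [Scheme.Hom.comp_apply, hz, e])
  obtain ⟨v₀, hv₀, hfv₀, hmax⟩ := exists_isFibMax_specializes (pullback.snd ι g' ≫ f') v
  have hz0 : pullback.fst ι g' v₀ = z := by
    refine ι.isEmbedding.injective ?_
    have h1 : ι (pullback.fst ι g' v₀) ⤳ x := by
      exact ((hv₀.map (pullback.fst ι g').continuous).map ι.continuous).trans
        (specializes_of_eq ((congrArg (fun t => ι t) hv1).trans hz))
    have h2 : x ⤳ ι (pullback.fst ι g' v₀) := specializes_iff_mem_closure.2 (hr.le ⟨_, rfl⟩)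
    exact (h1.antisymm h2).eq.trans hz.symm
  haveI : LocallyOfFiniteType (pullback.snd ι g' ≫ f') := MorphismProperty.of_isPullback sqB inferInstance
  haveI : LocallyOfFiniteType f' := MorphismProperty.of_isPullback h inferInstance
  obtain ⟨_, δ, -, hδ, -⟩ := SpRelDim.fibreDimAt_eq_add_resTrdeg (ι ≫ f) z
  obtain ⟨_, δ', -, hδ', -⟩ := SpRelDim.fibreDimAt_eq_add_resTrdeg (pullback.snd ι g' ≫ f') v₀
  have hmz : IsFibMax (ι ≫ f) z := hz0 ▸ isFibMax_of_isPullback sqB hmax
  have h3 := LocalDimBC.fibreDimAt_of_isPullback (ι ≫ f) g (pullback.fst ι g') (pullback.snd ι g' ≫ f') sqB v₀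
  rw [fibreDimAt_eq_resTrdeg _ hmax hδ', hz0, fibreDimAt_eq_resTrdeg _ hmz hδ] at h3
  obtain rfl : δ' = δ := by exact_mod_cast h3
  refine ⟨pullback.snd ι g' v₀, ?_, ?_, ?_⟩
  · rw [← Scheme.Hom.comp_apply, ← pullback.condition, Scheme.Hom.comp_apply, hz0, hz]
  · rw [← Scheme.Hom.comp_apply, hfv₀, hv2]
  · rw [SpQS.resTrdeg_precomp (pullback.snd ι g') f' (SpRelDim.quasiFiniteAt_of_isPreimmersion _ _)] at hδ'
    rw [SpQS.resTrdeg_precomp ι f (SpRelDim.quasiFiniteAt_of_isPreimmersion _ _), hz] at hδ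
    rw [hδ', hδ]

end Groth.Agent.FibreDimBC
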