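import Groth.Agent.FibreDimBC.Basic
import Groth.Agent.SpQS.TrdegQF
import Groth.Agent.AlgSpLib.LocPMore

/-!
Fibre local rings and transcendence degrees of algebraic spaces under base change.
-/

universe u
open CategoryTheory CategoryTheory.Limits AlgebraicGeometry Opposite

set_option backward.isDefEq.respectTransparency false

namespace Groth.Agent.FibreDimBC

open _root_.AlgSp Groth.Agent.AlgSpLib

variable {S : Scheme.{u}}

/-- charts of a base change -/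
theorem exists_bc_chart {X Y X' Y' : Sp S} (hX : IsAlgSpace X) (hY : IsAlgSpace Y) (hY' : IsAlgSpace Y')
    {f : X ⟶ Y} {g : Y' ⟶ Y} {g' : X' ⟶ X} {f' : X' ⟶ Y'} (sq : IsPullback g' f' f g) :
    ∃ (U V U'' V'' : Over S) (a : (yon S).obj U ⟶ X) (b : (yon S).obj V ⟶ Y) (a' : (yon S).obj U'' ⟶ X')
      (b' : (yon S).obj V'' ⟶ Y') (h : U ⟶ V) (h'' : U'' ⟶ V'') (u₁ : U'' ⟶ U) (v₂ : V'' ⟶ V),
      RepWith @Etale a ∧ RepWith @Surjective a ∧ RepWith @Etale b ∧ a ≫ f = (yon S).map h ≫ b ∧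
      RepWith @Etale a' ∧ RepWith @Surjective a' ∧ RepWith @Etale b' ∧ RepWith @Surjective b' ∧
      a' ≫ f' = (yon S).map h'' ≫ b' ∧ a' ≫ g' = (yon S).map u₁ ≫ a ∧ b' ≫ g = (yon S).map v₂ ≫ b ∧
      IsPullback u₁.left h''.left h.left v₂.left := by
  obtain ⟨U₀, π, hπ, hπs⟩ := hX.atlas
  obtain ⟨V, b, hb, hbs⟩ := hY.atlas
  obtain ⟨U, p, h, sq₀⟩ := exists_pullback hY.diag (π ≫ f) b
  have ha : RepWith @Etale ((yon S).map p ≫ π) := repWith_comp (repWith_baseChange sq₀.flip hb) hπ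
  have has : RepWith @Surjective ((yon S).map p ≫ π) := repWith_comp (repWith_baseChange sq₀.flip hbs) hπs
  have comm : ((yon S).map p ≫ π) ≫ f = (yon S).map h ≫ b := by rw [Category.assoc]; exact sq₀.w
  generalize (yon S).map p ≫ π = a at ha has comm
  obtain ⟨W, q, hq, hqs⟩ := hY'.atlas
  obtain ⟨V'', v₁, v₂, sqV⟩ := exists_pullback hY.diag (q ≫ g) b
  obtain ⟨U'', u₁, h'', sqU⟩ := exists_pullback (IsAlgSpace.yon_obj V).diag ((yon S).map h) ((yon S).map v₂)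
  have sqR := IsPullback.of_hasPullback a g'
  have sqR' := sqR.paste_vert sq
  have sqT : IsPullback ((yon S).map u₁) ((yon S).map h'' ≫ (yon S).map v₁) (a ≫ f) (q ≫ g) := by
    rw [comm]; exact sqU.paste_vert sqV.flip
  let m := sqR'.lift ((yon S).map u₁) (((yon S).map h'' ≫ (yon S).map v₁) ≫ q) (by rw [Category.assoc, sqT.w])
  have sqM : IsPullback m ((yon S).map h'' ≫ (yon S).map v₁) (pullback.snd a g' ≫ f') q :=
    IsPullback.of_right (by rw [sqR'.lift_fst]; exact sqT) (sqR'.lift_snd _ _ _) sqR'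
  refine ⟨U, V, U'', V'', a, b, m ≫ pullback.snd a g', (yon S).map v₁ ≫ q, h, h'', u₁, v₂, ha, has, hb, comm,
    repWith_comp (repWith_baseChange sqM.flip hq) (repWith_baseChange sqR ha),
    repWith_comp (repWith_baseChange sqM.flip hqs) (repWith_baseChange sqR has),
    repWith_comp (repWith_baseChange sqV.flip hb) hq,
    repWith_comp (repWith_baseChange sqV.flip hbs) hqs, ?_, ?_, ?_, isPullback_yon_iff.1 sqU⟩
  · rw [Category.assoc, sqM.w, Category.assoc]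
  · rw [Category.assoc, ← sqR.w, sqR'.lift_fst_assoc]
  · rw [Category.assoc, sqV.w]

/-- the dimension of the local ring of the fibre does not depend on the chart -/
theorem fibreStalkDim_chart_indep {X Y : Sp S} (hX : IsAlgSpace X) (hY : IsAlgSpace Y) (f : X ⟶ Y)
    (hf : LocP @LocallyOfFiniteType f) {U V U' V' : Over S}
    {a : (yon S).obj U ⟶ X} {b : (yon S).obj V ⟶ Y} {h : U ⟶ V} (ha : RepWith @Etale a) (hb : RepWith @Etale b)
    (comm : a ≫ f = (yon S).map h ≫ b) {a' : (yon S).obj U' ⟶ X} {b' : (yon S).obj V' ⟶ Y} {h' : U' ⟶ V'}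
    (ha' : RepWith @Etale a') (hb' : RepWith @Etale b') (comm' : a' ≫ f = (yon S).map h' ≫ b')
    {u : U.left} {u' : U'.left} (e : Points.ofPt a u = Points.ofPt a' u') :
    ringKrullDim ((h.left.fiber (h.left u)).presheaf.stalk (h.left.asFiber u)) =
      ringKrullDim ((h'.left.fiber (h'.left u')).presheaf.stalk (h'.left.asFiber u')) := by
  have : LocallyOfFiniteType h.left := hf a b h ha hb comm
  have : LocallyOfFiniteType h'.left := hf a' b' h' ha' hb' comm'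
  obtain ⟨n, δ, hn, hδ, hD⟩ := SpRelDim.fibreDimAt_eq_add_resTrdeg h.left u
  obtain ⟨n', δ', hn', hδ', hD'⟩ := SpRelDim.fibreDimAt_eq_add_resTrdeg h'.left u'
  rw [SpQS.resTrdeg_chart_indep hX hY f ha hb comm ha' hb' comm' e, hδ', Nat.cast_inj] at hδ
  rw [SpRelDim.fibreDimAt_chart_indep hX hY f hf ha hb comm ha' hb' comm' e, hD'] at hD
  have : n' + δ' = n + δ := by exact_mod_cast hD
  rw [hn, hn']
  exact_mod_cast (by omega : n = n')

theorem sp_fibre_bc {X Y X' Y' : Sp S} (hX : IsAlgSpace X) (hY : IsAlgSpace Y) (hX' : IsAlgSpace X')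
    (hY' : IsAlgSpace Y') {f : X ⟶ Y} {g : Y' ⟶ Y} {g' : X' ⟶ X} {f' : X' ⟶ Y'} (sq : IsPullback g' f' f g)
    (hf : LocP @LocallyOfFiniteType f) (x' : Points X') {e e' : WithBot ℕ∞} {r r' : Cardinal.{u}}
    (he : HasAtMor (fun _ _ h u => ringKrullDim ↥((h.fiber (h u)).presheaf.stalk (h.asFiber u)) = e) f (Points.map g' x'))
    (hr : HasAtMor (fun _ _ h u => Dual3.resTrdeg h u = r) f (Points.map g' x'))
    (he' : HasAtMor (fun _ _ h u => ringKrullDim ↥((h.fiber (h u)).presheaf.stalk (h.asFiber u)) = e') f' x')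
    (hr' : HasAtMor (fun _ _ h u => Dual3.resTrdeg h u = r') f' x') :
    e' + ((Cardinal.toENat r' : ℕ∞) : WithBot ℕ∞) = e + ((Cardinal.toENat r : ℕ∞) : WithBot ℕ∞) ∧ e ≤ e' := by
  obtain ⟨U, V, U'', V'', a, b, a', b', h, h'', u₁, v₂, ha, -, hb, comm, ha', has', hb', -, comm', hg, -, sqS⟩ :=
    exists_bc_chart hX hY hY' sq
  have hf' := locP_baseChange etST_lft hX hY hX' hY' sq hf
  obtain ⟨w, rfl⟩ := ofPt_surjective has' x'
  have hw : Points.map g' (Points.ofPt a' w) = Points.ofPt a (u₁.left w) := by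
    rw [Points.map_ofPt, hg]; exact ofPt_comp _ _ _
  rw [hw] at he hr
  have : LocallyOfFiniteType h.left := hf a b h ha hb comm
  have : LocallyOfFiniteType h''.left := hf' a' b' h'' ha' hb' comm'
  obtain ⟨_, _, a₁, b₁, h₁, x₁, ha₁, hb₁, comm₁, hx₁, rfl⟩ := he
  obtain ⟨_, _, a₂, b₂, h₂, x₂, ha₂, hb₂, comm₂, hx₂, rfl⟩ := hr
  obtain ⟨_, _, a₃, b₃, h₃, x₃, ha₃, hb₃, comm₃, hx₃, rfl⟩ := he'
  obtain ⟨_, _, a₄, b₄, h₄, x₄, ha₄, hb₄, comm₄, hx₄, rfl⟩ := hr'
  rw [fibreStalkDim_chart_indep hX hY f hf ha₁ hb₁ comm₁ ha hb comm hx₁,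
    SpQS.resTrdeg_chart_indep hX hY f ha₂ hb₂ comm₂ ha hb comm hx₂,
    fibreStalkDim_chart_indep hX' hY' f' hf' ha₃ hb₃ comm₃ ha' hb' comm' hx₃,
    SpQS.resTrdeg_chart_indep hX' hY' f' ha₄ hb₄ comm₄ ha' hb' comm' hx₄]
  refine ⟨?_, fibreStalkDim_le sqS w⟩
  obtain ⟨n, δ, hn, hδ, hD⟩ := SpRelDim.fibreDimAt_eq_add_resTrdeg h.left (u₁.left w)
  obtain ⟨n', δ', hn', hδ', hD'⟩ := SpRelDim.fibreDimAt_eq_add_resTrdeg h''.left w
  rw [LocalDimBC.fibreDimAt_of_isPullback h.left v₂.left u₁.left h''.left sqS w, hD] at hD'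
  rw [hn, hn', hδ, hδ']
  simp only [map_natCast]
  exact_mod_cast hD'.symm

theorem sp_exists_fibre_bc {X Y X' Y' : Sp S} (hX : IsAlgSpace X) (hY : IsAlgSpace Y) (hX' : IsAlgSpace X')
    (hY' : IsAlgSpace Y') {f : X ⟶ Y} {g : Y' ⟶ Y} {g' : X' ⟶ X} {f' : X' ⟶ Y'} (sq : IsPullback g' f' f g)
    (hf : LocP @LocallyOfFiniteType f) (x : Points X) (y' : Points Y') {e : WithBot ℕ∞}
    (hxy : Points.map f x = Points.map g y')
    (he : HasAtMor (fun _ _ h u => ringKrullDim ↥((h.fiber (h u)).presheaf.stalk (h.asFiber u)) = e) f x) :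
    ∃ x' : Points X', Points.map g' x' = x ∧ Points.map f' x' = y' ∧
      HasAtMor (fun _ _ h u => ringKrullDim ↥((h.fiber (h u)).presheaf.stalk (h.asFiber u)) = e) f' x' := by
  obtain ⟨U, V, U'', V'', a, b, a', b', h, h'', u₁, v₂, ha, -, hb, comm, ha', has', hb', hbs', comm', hg, hgb, sqS⟩ :=
    exists_bc_chart hX hY hY' sq
  have hf' := locP_baseChange etST_lft hX hY hX' hY' sq hf
  obtain ⟨p, hp1, hp2⟩ := exists_point_of_isPullback sq x y' hxy
  obtain ⟨w₀, rfl⟩ := ofPt_surjective has' p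
  have hw : ∀ w, Points.map g' (Points.ofPt a' w) = Points.ofPt a (u₁.left w) := fun w => by
    rw [Points.map_ofPt, hg]; exact ofPt_comp _ _ _
  have hv : ∀ w, Points.map f' (Points.ofPt a' w) = Points.ofPt b' (h''.left w) := fun w => by
    rw [Points.map_ofPt, comm']; exact ofPt_comp _ _ _
  have : LocallyOfFiniteType h.left := hf a b h ha hb comm
  have : LocallyOfFiniteType h''.left := hf' a' b' h'' ha' hb' comm'
  obtain ⟨w, hw1, hw2, hw3⟩ := exists_resTrdeg_eq sqS (u₁.left w₀) (h''.left w₀)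
    (congrArg (fun k : U''.left ⟶ V.left => k w₀) sqS.w)
  refine ⟨Points.ofPt a' w, by rw [hw, hw1, ← hw, hp1], by rw [hv, hw2, ← hv, hp2],
    U'', V'', a', b', h'', w, ha', hb', comm', rfl, ?_⟩
  show ringKrullDim _ = e
  obtain ⟨_, _, a₁, b₁, h₁, x₁, ha₁, hb₁, comm₁, hx₁, rfl⟩ := he
  rw [hw] at hp1
  rw [fibreStalkDim_chart_indep hX hY f hf ha₁ hb₁ comm₁ ha hb comm (hx₁.trans hp1.symm)]
  obtain ⟨n, δ, hn, hδ, hD⟩ := SpRelDim.fibreDimAt_eq_add_resTrdeg h.left (u₁.left w₀)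
  obtain ⟨n', δ', hn', hδ', hD'⟩ := SpRelDim.fibreDimAt_eq_add_resTrdeg h''.left w
  rw [LocalDimBC.fibreDimAt_of_isPullback h.left v₂.left u₁.left h''.left sqS w, hw1, hD] at hD'
  rw [hw3, hδ, Nat.cast_inj] at hδ'
  rw [hn, hn']
  have : n + δ = n' + δ' := by exact_mod_cast hD'
  exact_mod_cast (by omega : n' = n)

end Groth.Agent.FibreDimBC
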